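import Cfsg.Agent.H892.EP.Rows
import Cfsg.Agent.H124.LinCyc
import Cfsg.Agent.ClassicalGeometry.SympInvolutions
import Cfsg.Agent.S2586
import Cfsg.Agent.S2589

/-!
# S4929, `PSp_{2m}(q)`, `ord_p(q) > m`: cyclic Sylow `p`-subgroups and a real element of order `p` (helper188)
-/

set_option autoImplicit false
set_option linter.unusedSectionVars false
set_option linter.unusedVariables false

open Cfsg Cfsg.Agent.Characters.Core Cfsg.Agent.H892.EP

namespace Cfsg.Agent.H188.EP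

/-- the order of `q` modulo `p` -/
theorem exists_ord {q p : ℕ} [hp : Fact p.Prime] (hpq : ¬ p ∣ q) : ∃ e : ℕ, 0 < e ∧ ∀ j, p ∣ q ^ j - 1 ↔ e ∣ j := by
  have hq0 : (q : ZMod p) ≠ 0 := by
    intro h
    exact hpq ((ZMod.natCast_eq_zero_iff q p).1 h)
  have hq1 : 1 ≤ q := Nat.one_le_iff_ne_zero.2 fun h => hpq (h ▸ dvd_zero p)
  refine ⟨orderOf (q : ZMod p), ?_, fun j => ?_⟩
  · rw [orderOf_pos_iff, isOfFinOrder_iff_pow_eq_one]
    exact ⟨p - 1, by have := hp.out.two_le; omega, ZMod.pow_card_sub_one_eq_one hq0⟩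
  · rw [← ZMod.natCast_eq_zero_iff, Nat.cast_sub (Nat.one_le_pow _ _ hq1), Nat.cast_pow, Nat.cast_one, sub_eq_zero,
      orderOf_dvd_iff_pow_eq_one]

theorem not_dvd_card {F : Type*} [Field F] [Fintype F] {r p : ℕ} [Fact r.Prime] [CharP F r] [hp : Fact p.Prime]
    (hpr : p ≠ r) : ¬ p ∣ Fintype.card F := by
  intro h
  obtain ⟨n, hr, hn⟩ := FiniteField.card F r
  rw [hn] at h
  exact hpr ((Nat.prime_dvd_prime_iff_eq hp.out hr).1 (hp.out.dvd_of_dvd_pow h))

theorem center_sq {F : Type*} [Field F] {m : ℕ} {z : Matrix.symplecticGroup (Fin m) F}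
    (hz : z ∈ Subgroup.center (Matrix.symplecticGroup (Fin m) F)) : z ^ 2 = 1 := by
  apply Subtype.ext
  rcases Cfsg.Agent.ClassicalGeometry.SympInvolutions.center_eq hz with h | h
  · rw [pow_two, Submonoid.coe_mul, h, one_mul]
    rfl
  · rw [pow_two, Submonoid.coe_mul, h, neg_mul_neg, one_mul]
    rfl

/-- Elements of odd prime order of `PSp_{2m}(q)`, prime to the characteristic, are real. -/
theorem real_psp {F : Type*} [Field F] [Fintype F] {r : ℕ} [Fact r.Prime] [CharP F r]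
    {m : ℕ} {p : ℕ} (hp : p.Prime) (hp2 : p ≠ 2) (hpr : p ≠ r) (y : PSp m F)
    (hy : orderOf y = p) : IsConj y y⁻¹ := by
  obtain ⟨x₀, rfl⟩ := QuotientGroup.mk'_surjective _ y
  obtain ⟨k, hk⟩ := hp.odd_of_ne_two hp2
  have hz : x₀ ^ p ∈ Subgroup.center (Matrix.symplecticGroup (Fin m) F) := by
    rw [← QuotientGroup.ker_mk' (Subgroup.center (Matrix.symplecticGroup (Fin m) F)),
      MonoidHom.mem_ker, map_pow, ← hy, pow_orderOf_eq_one]
  have hx1 : (x₀ ^ (p + 1)) ^ p = 1 := by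
    have h1 : p + 1 = 2 * (k + 1) := by omega
    rw [← pow_mul, mul_comm, pow_mul, h1, pow_mul, center_sq hz, one_pow]
  have hπx : QuotientGroup.mk' (Subgroup.center (Matrix.symplecticGroup (Fin m) F)) (x₀ ^ (p + 1)) =
      QuotientGroup.mk' _ x₀ := by
    rw [map_pow, pow_succ, ← hy, pow_orderOf_eq_one, one_mul]
  have hord : (orderOf (x₀ ^ (p + 1))).Coprime r := by
    refine Nat.Coprime.coprime_dvd_left (orderOf_dvd_of_pow_eq_one hx1) ?_
    exact (Nat.coprime_primes hp (Fact.out : r.Prime)).mpr hpr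
  have hconj := (Cfsg.Agent.S2589.result (x₀ ^ (p + 1)) (x₀ ^ (p + 1))⁻¹ hord).mpr
    (Cfsg.Agent.S2586.result (x₀ ^ (p + 1)))
  have h2 := (QuotientGroup.mk' (Subgroup.center (Matrix.symplecticGroup (Fin m) F))).map_isConj hconj
  rwa [map_inv, hπx] at h2

variable {F : Type} [Field F] [Fintype F] {r : ℕ} [Fact r.Prime] [CharP F r] {p : ℕ} [Fact p.Prime]

/-- `d = ord_p(q) > m`: cyclic Sylow `p`-subgroups and a real element of order `p` -/
theorem rest_psp (hp2 : p ≠ 2) (hpr : p ≠ r) {m : ℕ} (hm : 2 ≤ m) (hd : p ∣ Nat.card (PSp m F))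
    (h : ∀ i, 0 < i → i ≤ m → ¬ p ∣ Fintype.card F ^ i - 1) : EvAt p (PSp m F) := by
  have hfin : Finite (PSp m F) := Quotient.finite _
  obtain ⟨e, he, hiff⟩ := exists_ord (q := Fintype.card F) (not_dvd_card (F := F) hpr)
  have hme : m < e := by
    by_contra hle
    exact h e he (not_lt.1 hle) ((hiff e).2 dvd_rfl)
  obtain ⟨z, hz⟩ := exists_prime_orderOf_dvd_card' p hd
  refine evAt_of_real_cyclic hp2 (fun P => ?_) hz (real_psp Fact.out hp2 hpr z hz)
  let σ : Matrix.symplecticGroup (Fin m) F →* Matrix.GeneralLinearGroup (Fin m ⊕ Fin m) F :=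
    { toFun := fun A => ⟨(A : Matrix (Fin m ⊕ Fin m) (Fin m ⊕ Fin m) F), ((A⁻¹ : Matrix.symplecticGroup (Fin m) F) :
          Matrix (Fin m ⊕ Fin m) (Fin m ⊕ Fin m) F), by
            rw [← Submonoid.coe_mul, mul_inv_cancel]; rfl, by rw [← Submonoid.coe_mul, inv_mul_cancel]; rfl⟩
      map_one' := Units.ext rfl
      map_mul' := fun A B => Units.ext rfl }
  have hσ : Function.Injective σ := fun A B hAB => Subtype.ext (congrArg Units.val hAB)
  exact Cfsg.Agent.H124.LinCyc.isCyclic_sylow_of_gl hp2 he hiff (by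
    rw [Fintype.card_sum, Fintype.card_fin]
    omega) σ hσ (QuotientGroup.mk' (Subgroup.center (Matrix.symplecticGroup (Fin m) F)))
    (QuotientGroup.mk'_surjective _) P

end Cfsg.Agent.H188.EP
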